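import Groth.Agent.Hensel.Local
import Groth.Agent.Hensel.Lift
import Groth.Agent.NormEtLib.Alg
import Mathlib

/-!
# Invariants of an étale map over a strictly henselian ring
-/

set_option autoImplicit false
set_option backward.isDefEq.respectTransparency false
set_option linter.style.haveILetI false
set_option linter.unusedSectionVars false
set_option maxHeartbeats 1000000
set_option synthInstance.maxHeartbeats 100000

universe u

open IsLocalRing TensorProduct

noncomputable section

namespace Groth.Agent.InvEtaleLib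

/-- Idempotents lying in the same maximal ideals are equal. -/
theorem idem_eq {R : Type u} [CommRing R] {e₁ e₂ : R} (h₁ : e₁ * e₁ = e₁) (h₂ : e₂ * e₂ = e₂)
    (h : ∀ M : Ideal R, M.IsMaximal → (e₁ ∈ M ↔ e₂ ∈ M)) : e₁ = e₂ := by
  have key : ∀ a b : R, a * a = a → b * b = b → (∀ M : Ideal R, M.IsMaximal → b ∈ M → a ∈ M) → a * (1 - b) = 0 := by
    intro a b ha hb hab
    have hj : a * (1 - b) ∈ Ideal.jacobson (⊥ : Ideal R) := by
      simp only [Ideal.jacobson, Ideal.mem_sInf]
      rintro M ⟨-, hM⟩
      by_cases hbM : b ∈ M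
      · exact M.mul_mem_right _ (hab M hM hbM)
      · refine M.mul_mem_left _ ((hM.isPrime.mem_or_mem (x := b) (y := 1 - b) ?_).resolve_left hbM)
        rw [mul_sub, mul_one, hb, sub_self]
        exact M.zero_mem
    obtain ⟨v, hv⟩ := isUnit_iff_exists_inv.1 ((Ideal.mem_jacobson_bot.1 hj) (-1))
    have h1 : (a * (1 - b)) * (a * (1 - b) * -1 + 1) = 0 := by
      linear_combination (-(1 - b) ^ 2) * ha + (-a) * hb
    calc a * (1 - b) = a * (1 - b) * ((a * (1 - b) * -1 + 1) * v) := by rw [hv, mul_one]
      _ = (a * (1 - b)) * (a * (1 - b) * -1 + 1) * v := by ring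
      _ = 0 := by rw [h1, zero_mul]
  linear_combination key e₁ e₂ h₁ h₂ (fun M hM => (h M hM).2) - key e₂ e₁ h₂ h₁ (fun M hM => (h M hM).1)

section Idem

variable (S : Type u) [CommRing S] [HenselianLocalRing S] {B' : Type u} [CommRing B'] [Algebra S B'] [Module.Finite S B']
include S

/-- The idempotent cutting out the local factor of a finite algebra over a henselian local ring at a maximal ideal. -/
theorem exists_idempotent (y : Ideal B') [y.IsMaximal] :
    ∃ e : B', e * e = e ∧ e ∉ y ∧ (∀ M : Ideal B', M.IsMaximal → M ≠ y → e ∈ M) ∧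
      ∀ u, u ∉ y → ∃ v, e * (u * v) = e := by
  classical
  obtain ⟨J, _, C, _, hloc, ⟨E⟩⟩ := Hensel.exists_pi_local_of_henselian S B'
  haveI := hloc
  let ε : J → B' := fun j => E.symm (Pi.single j 1)
  have hε1 : ∑ j, ε j = 1 := by
    rw [← map_sum, Finset.univ_sum_single (fun j => (1 : C j))]
    exact map_one E.symm
  have hid : ∀ j, ε j * ε j = ε j := fun j => E.injective (by
    simp only [ε, map_mul, RingEquiv.apply_symm_apply, ← Pi.single_mul, mul_one])
  let π : ∀ j, B' →+* C j := fun j => (Pi.evalRingHom C j).comp E.toRingHom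
  have hker : ∀ j x, π j x = 0 → ε j * x = 0 := fun j x hx => E.injective (by
    simp only [ε, map_mul, RingEquiv.apply_symm_apply, map_zero]
    funext l
    rcases eq_or_ne l j with rfl | hl
    · simpa [π] using hx
    · simp [Pi.single_eq_of_ne hl])
  have hπ : ∀ j, Function.Surjective (π j) := fun j c => ⟨E.symm (Pi.single j c), by
    show E (E.symm (Pi.single j c)) j = c
    rw [RingEquiv.apply_symm_apply, Pi.single_eq_same]⟩
  have hcomap : ∀ j (M : Ideal B'), M.IsMaximal → ε j ∉ M → M = (maximalIdeal (C j)).comap (π j) := by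
    intro j M hM hj
    have hle : RingHom.ker (π j) ≤ M := fun x hx =>
      (hM.isPrime.mem_or_mem (x := ε j) (y := x) (by rw [hker j x hx]; exact M.zero_mem)).resolve_left hj
    have hmap : M.map (π j) ≠ ⊤ := fun h => hM.ne_top (by
      rw [← sup_eq_left.2 hle, RingHom.ker_eq_comap_bot, ← Ideal.comap_map_of_surjective (π j) (hπ j), h, Ideal.comap_top])
    haveI : ((maximalIdeal (C j)).comap (π j)).IsMaximal := Ideal.comap_isMaximal_of_surjective _ (hπ j)
    exact hM.eq_of_le (Ideal.IsPrime.ne_top inferInstance)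
      (Ideal.map_le_iff_le_comap.1 (IsLocalRing.le_maximalIdeal hmap))
  obtain ⟨j, hj⟩ : ∃ j, ε j ∉ y := by
    by_contra h
    push Not at h
    exact (inferInstance : y.IsMaximal).ne_top (y.eq_top_iff_one.2 (hε1 ▸ Ideal.sum_mem _ fun j _ => h j))
  refine ⟨ε j, hid j, hj, fun M hM hne => by_contra fun hjM => hne ((hcomap j M hM hjM).trans (hcomap j y ‹_› hj).symm),
    fun u hu => ?_⟩
  have hu' : IsUnit (π j u) := by
    by_contra h
    exact hu (by rw [hcomap j y ‹_› hj]; exact h)
  obtain ⟨v, hv⟩ := hπ j ↑(hu'.unit⁻¹)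
  refine ⟨v, ?_⟩
  have h0 : π j (u * v - 1) = 0 := by rw [map_sub, map_mul, hv, map_one, IsUnit.mul_val_inv, sub_self]
  have := hker j _ h0
  rwa [mul_sub, mul_one, sub_eq_zero] at this

/-- The local ring at a maximal ideal is a finite local algebra, hence henselian. -/
theorem henselian_localization (y : Ideal B') [y.IsMaximal] :
    Function.Surjective (algebraMap B' (Localization.AtPrime y)) ∧ Module.Finite S (Localization.AtPrime y) ∧
      HenselianLocalRing (Localization.AtPrime y) := by
  obtain ⟨e, he, hey, -, hu⟩ := exists_idempotent S y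
  have he1 : algebraMap B' (Localization.AtPrime y) e = 1 := by
    have hunit := IsLocalization.map_units (Localization.AtPrime y) (⟨e, hey⟩ : y.primeCompl)
    exact (IsUnit.mul_eq_left hunit).1 (by rw [← map_mul, he])
  have hsurj : Function.Surjective (algebraMap B' (Localization.AtPrime y)) := fun z => by
    obtain ⟨b, s, rfl⟩ := IsLocalization.exists_mk'_eq y.primeCompl z
    obtain ⟨v, hv⟩ := hu s s.2
    refine ⟨v * b, ?_⟩
    rw [IsLocalization.eq_mk'_iff_mul_eq, ← map_mul]
    have := congrArg (algebraMap B' (Localization.AtPrime y)) hv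
    rw [map_mul, he1, one_mul] at this
    rw [show v * b * s = s * v * b by ring, map_mul, this, one_mul]
  haveI hfin : Module.Finite S (Localization.AtPrime y) :=
    Module.Finite.of_surjective (IsScalarTower.toAlgHom S B' (Localization.AtPrime y)).toLinearMap hsurj
  refine ⟨hsurj, hfin, ?_⟩
  rw [← Hensel.henselianRing_maximalIdeal_iff]
  haveI := Hensel.of_isIntegral (I := maximalIdeal S) (Localization.AtPrime y)
  refine Hensel.of_le_radical (I := (maximalIdeal S).map (algebraMap S (Localization.AtPrime y))) ?_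
  rw [Ideal.radical_eq_sInf]
  refine le_sInf fun P ⟨hP, hPp⟩ => ?_
  have : (P.comap (algebraMap S (Localization.AtPrime y))).IsMaximal := by
    rw [← (maximalIdeal.isMaximal S).eq_of_le (Ideal.comap_ne_top _ hPp.ne_top) (Ideal.map_le_iff_le_comap.1 hP)]
    exact maximalIdeal.isMaximal S
  exact (IsLocalRing.eq_maximalIdeal (Ideal.isMaximal_of_isIntegral_of_isMaximal_comap P this)).ge

end Idem

variable {S : Type u} [CommRing S] [HenselianLocalRing S] [IsSepClosed (ResidueField S)]
  {B' A' : Type u} [CommRing B'] [Algebra S B'] [Module.Finite S B'] [CommRing A'] [Algebra B' A'] [Algebra S A']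
  [IsScalarTower S B' A']

/-- Étale algebras over a finite extension of a separably closed field have no new residues. -/
theorem exists_eq_algebraMap {k K L W : Type u} [Field k] [IsSepClosed k] [Field K] [Algebra k K] [Module.Finite k K]
    [Field L] [Algebra K L] [CommRing W] [Algebra K W] [Algebra.Etale K W] (θ : W →ₐ[K] L) (z : W) :
    ∃ c : K, algebraMap K L c = θ z := by
  letI : Algebra k L := ((algebraMap K L).comp (algebraMap k K)).toAlgebra
  haveI : IsScalarTower k K L := IsScalarTower.of_algebraMap_eq' rfl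
  haveI : Module.Finite K W := Algebra.FormallyUnramified.finite_of_free _ _
  haveI : Module.Finite K θ.range := Module.Finite.of_surjective θ.rangeRestrict.toLinearMap θ.rangeRestrict_surjective
  haveI : Algebra.FormallyUnramified K θ.range :=
    Algebra.FormallyUnramified.of_surjective θ.rangeRestrict θ.rangeRestrict_surjective
  have hsep : _root_.IsSeparable K (θ z) := by
    letI : Field θ.range := (isField_of_isIntegral_of_isField' (R := K) (Field.toIsField K)).toField
    haveI : Algebra.IsSeparable K θ.range := Algebra.FormallyUnramified.isSeparable K θ.range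
    have h := Algebra.IsSeparable.isSeparable K (θ.rangeRestrict z)
    show (minpoly K (θ z)).Separable
    rw [show θ z = θ.range.val (θ.rangeRestrict z) from rfl, minpoly.algHom_eq θ.range.val Subtype.val_injective]
    exact h
  let M := IntermediateField.adjoin K {θ z}
  haveI : FiniteDimensional K M := IntermediateField.adjoin.finiteDimensional hsep.isIntegral
  haveI : Algebra.IsSeparable K M := (IntermediateField.isSeparable_adjoin_simple_iff_isSeparable K L).2 hsep
  haveI : Module.Finite k M := Module.Finite.trans K M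
  haveI : IsPurelyInseparable k M := inferInstance
  haveI : IsPurelyInseparable K M := IsPurelyInseparable.tower_top k K M
  obtain ⟨c, hc⟩ := IsPurelyInseparable.surjective_algebraMap_of_isSeparable K M
    ⟨θ z, IntermediateField.mem_adjoin_simple_self K _⟩
  exact ⟨c, congrArg Subtype.val hc⟩

/-- A morphism étale at a prime over the closed point is a local isomorphism there. -/
theorem exists_local_inverse {B₀ A₀ : Type u} [CommRing B₀] [CommRing A₀] [Algebra B₀ A₀] (f : A₀)
    [Algebra.Etale B₀ (Localization.Away f)] (β : B₀ →+* B') (α : A₀ →+* A')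
    (hαβ : ∀ b, α (algebraMap B₀ A₀ b) = algebraMap B' A' (β b))
    (hgen : Subring.closure (Set.range (algebraMap B' A') ∪ Set.range α) = ⊤)
    (hlift : ∀ (C : Type u) [CommRing C] (γ : B' →+* C) (τ : A₀ →+* C),
      γ.comp β = τ.comp (algebraMap B₀ A₀) → ∃ ρ : A' →+* C, ρ.comp (algebraMap B' A') = γ ∧ ρ.comp α = τ)
    (x : Ideal A') [x.IsPrime] (hx : x.comap (algebraMap S A') = maximalIdeal S) (hfx : α f ∉ x) :
    (∀ a : A', ∃ b : B', ∃ u ∉ x, u * (a - algebraMap B' A' b) = 0) ∧
      ∀ b : B', (∃ u ∉ x, u * algebraMap B' A' b = 0) → ∃ v ∉ x.comap (algebraMap B' A'), v * b = 0 := by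
  let y := x.comap (algebraMap B' A')
  haveI : y.IsPrime := Ideal.IsPrime.comap _
  have hy : y.comap (algebraMap S B') = maximalIdeal S := by
    rw [Ideal.comap_comap, ← IsScalarTower.algebraMap_eq, hx]
  haveI : y.IsMaximal := Ideal.isMaximal_of_isIntegral_of_isMaximal_comap (R := S) y (hy ▸ inferInstance)
  obtain ⟨hsurj, hfin, hhens⟩ := henselian_localization S y
  let C := Localization.AtPrime y
  let L := Localization.AtPrime x
  haveI : Module.Finite S C := hfin
  haveI : HenselianLocalRing C := hhens
  let ι : C →+* L := Localization.localRingHom y x (algebraMap B' A') rfl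
  have hι : ∀ b, ι (algebraMap B' C b) = algebraMap A' L (algebraMap B' A' b) := fun b =>
    Localization.localRingHom_to_map _ _ _ rfl b
  haveI : IsLocalHom ι := Localization.isLocalHom_localRingHom _ _ _ rfl
  letI : Algebra B₀ C := ((algebraMap B' C).comp β).toAlgebra
  letI : Algebra B₀ L := (ι.comp (algebraMap B₀ C)).toAlgebra
  let E := Localization.Away f
  have hfu : IsUnit ((algebraMap A' L).comp α f) :=
    IsLocalization.map_units L (⟨α f, hfx⟩ : x.primeCompl)
  let φ₀ : E →+* L := IsLocalization.Away.lift f hfu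
  have hφ₀ : ∀ a, φ₀ (algebraMap A₀ E a) = algebraMap A' L (α a) := fun a => IsLocalization.Away.lift_eq f hfu a
  let φ : E →ₐ[B₀] L :=
    { φ₀ with
      commutes' := fun b => by
        show φ₀ (algebraMap B₀ E b) = ι (algebraMap B' C (β b))
        rw [IsScalarTower.algebraMap_apply B₀ A₀ E, hφ₀, hαβ, hι] }
  -- the residue of the point lies in the residue field of the henselian factor
  let kC := ResidueField C
  let kL := ResidueField L
  let κι : kC →+* kL := ResidueField.map ι
  have hres : ∀ z : E, ∃ c : kC, κι c = residue L (φ z) := by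
    letI : Algebra kC kL := κι.toAlgebra
    letI : Algebra B₀ kC := ((residue C).comp (algebraMap B₀ C)).toAlgebra
    let χ : E →ₐ[B₀] kL :=
      { (residue L).comp φ.toRingHom with commutes' := fun b => congrArg (residue L) (φ.commutes b) }
    haveI : IsScalarTower B₀ kC kL := IsScalarTower.of_algebraMap_eq fun b => rfl
    let θ : kC ⊗[B₀] E →ₐ[kC] kL := Algebra.TensorProduct.lift (Algebra.ofId _ _) χ fun _ _ => Commute.all _ _
    haveI : Algebra.Etale kC (kC ⊗[B₀] E) := inferInstance
    haveI : IsLocalHom (algebraMap S C) := by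
      refine ⟨fun s hs => ?_⟩
      by_contra hns
      have h1 : algebraMap S B' s ∈ y := by
        have : s ∈ y.comap (algebraMap S B') := hy ▸ (mem_maximalIdeal s).2 hns
        exact this
      rw [IsScalarTower.algebraMap_apply S B' C] at hs
      exact ((IsLocalization.AtPrime.isUnit_to_map_iff C y _).1 hs) h1
    letI : Algebra (ResidueField S) kC := (ResidueField.map (algebraMap S C)).toAlgebra
    haveI : Module.Finite (ResidueField S) kC := by
      haveI : IsScalarTower S (ResidueField S) kC := IsScalarTower.of_algebraMap_eq fun s => (ResidueField.map_residue (algebraMap S C) s).symm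
      haveI : Module.Finite S kC := Module.Finite.of_surjective (IsScalarTower.toAlgHom S C kC).toLinearMap residue_surjective
      exact Module.Finite.of_restrictScalars_finite S _ _
    intro z
    obtain ⟨c, hc⟩ := exists_eq_algebraMap (k := ResidueField S) θ (1 ⊗ₜ z)
    refine ⟨c, ?_⟩
    change κι c = θ (1 ⊗ₜ z) at hc
    rw [hc, Algebra.TensorProduct.lift_tmul, map_one, one_mul]
    rfl
  choose σ₀ hσ₀ using hres
  let σ : E →ₐ[B₀] kC :=
    { toFun := σ₀
      map_one' := κι.injective (by rw [hσ₀, map_one, map_one, map_one])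
      map_mul' := fun a b => κι.injective (by rw [map_mul, hσ₀, hσ₀, hσ₀, map_mul, map_mul])
      map_zero' := κι.injective (by rw [hσ₀, map_zero, map_zero, map_zero])
      map_add' := fun a b => κι.injective (by rw [map_add, hσ₀, hσ₀, hσ₀, map_add, map_add])
      commutes' := fun b => κι.injective (by
        rw [hσ₀, φ.commutes]
        rfl) }
  haveI : HenselianRing C (maximalIdeal C) := Hensel.henselianRing_maximalIdeal_iff.2 inferInstance
  obtain ⟨τ, hτ⟩ := Hensel.exists_algHom_of_etale (R := B₀) (A := C) (I := maximalIdeal C) σ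
  let ιB : C →ₐ[B₀] L := { ι with commutes' := fun _ => rfl }
  have huniq : ιB.comp τ = φ := by
    refine Hensel.algHom_unique (I := maximalIdeal L) (IsLocalRing.maximalIdeal_le_jacobson _) fun z => ?_
    rw [← Ideal.Quotient.eq_zero_iff_mem, map_sub]
    show residue L (ι (τ z)) - residue L (φ z) = 0
    have h1 : residue C (τ z) = σ₀ z := AlgHom.congr_fun hτ z
    rw [← hσ₀, ← h1]
    exact sub_eq_zero.2 (ResidueField.map_residue ι (τ z)).symm
  obtain ⟨ρ, hρB, hρA⟩ := hlift C (algebraMap B' C) (τ.toRingHom.comp (algebraMap A₀ E)) (RingHom.ext fun b => by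
    show algebraMap B₀ C b = τ (algebraMap A₀ E (algebraMap B₀ A₀ b))
    rw [← IsScalarTower.algebraMap_apply, τ.commutes])
  have hρ : ι.comp ρ = algebraMap A' L := by
    refine RingHom.eq_of_eqOn_set_dense hgen ?_
    rintro _ (⟨b, rfl⟩ | ⟨a, rfl⟩)
    · show ι (ρ (algebraMap B' A' b)) = _
      rw [show ρ (algebraMap B' A' b) = algebraMap B' C b from congr($hρB b), hι]
    · show ι (ρ (α a)) = _
      rw [show ρ (α a) = τ (algebraMap A₀ E a) from congr($hρA a), ← hφ₀]
      exact AlgHom.congr_fun huniq _
  refine ⟨fun a => ?_, fun b ⟨u, hu, hub⟩ => ?_⟩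
  · obtain ⟨b, hb⟩ := hsurj (ρ a)
    refine ⟨b, ?_⟩
    have h1 : algebraMap A' L a = algebraMap A' L (algebraMap B' A' b) := by
      rw [← hι, hb]; exact congr($hρ a).symm
    obtain ⟨⟨u, hu⟩, h2⟩ := (IsLocalization.eq_iff_exists x.primeCompl L).1 h1
    exact ⟨u, hu, by rw [mul_sub, sub_eq_zero]; exact h2⟩
  · have h1 : IsUnit (ρ u) := isUnit_of_map_unit ι _ (by
      rw [show ι (ρ u) = algebraMap A' L u from congr($hρ u)]
      exact IsLocalization.map_units L (⟨u, hu⟩ : x.primeCompl))
    have h2 : algebraMap B' C b = 0 := by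
      have := congrArg ρ hub
      rw [map_mul, map_zero, show ρ (algebraMap B' A' b) = algebraMap B' C b from congr($hρB b)] at this
      exact h1.mul_right_eq_zero.1 this
    obtain ⟨⟨v, hv⟩, hvb⟩ := (IsLocalization.map_eq_zero_iff y.primeCompl C b).1 h2
    exact ⟨v, hv, hvb⟩

section Invariant

variable {G : Type u} [Group G] [Finite G] [MulSemiringAction G B'] [MulSemiringAction G A']
  {T : Type u} [CommRing T] [Algebra S T]

/-- The invariants are the henselian base near the point. -/
theorem invariants_local (hequiv : ∀ (g : G) (b : B'), algebraMap B' A' (g • b) = g • algebraMap B' A' b)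
    (hinjS : Function.Injective (algebraMap S B')) (hS : ∀ (g : G) (s : S), g • algebraMap S B' s = algebraMap S B' s)
    (hB : ∀ b : B', (∀ g : G, g • b = b) → ∃ s, algebraMap S B' s = b)
    (j : T →ₐ[S] A') (hj : Function.Injective j)
    (hT : ∀ a : A', (∀ g : G, g • a = a) ↔ a ∈ Set.range j)
    (x : Ideal A') [x.IsPrime] (hx : x.comap (algebraMap S A') = maximalIdeal S)
    (hloc₁ : ∀ a : A', ∃ b : B', ∃ u ∉ x, u * (a - algebraMap B' A' b) = 0)
    (hloc₂ : ∀ b : B', (∃ u ∉ x, u * algebraMap B' A' b = 0) → ∃ v ∉ x.comap (algebraMap B' A'), v * b = 0)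
    (I : Subgroup G) (hI : ∀ σ ∈ I, ∀ a, σ • a ∈ x ↔ a ∈ x)
    (hI' : ∀ σ : G, (∀ b : B', σ • b ∈ x.comap (algebraMap B' A') ↔ b ∈ x.comap (algebraMap B' A')) → σ ∈ I) :
    (∀ t : T, ∃ s : S, ∃ n ∉ x.comap j.toRingHom, n * (t - algebraMap S T s) = 0) ∧
      ∀ s : S, (∃ n ∉ x.comap j.toRingHom, n * algebraMap S T s = 0) → s = 0 := by
  classical
  haveI := Fintype.ofFinite G
  let y := x.comap (algebraMap B' A')
  haveI : y.IsPrime := Ideal.IsPrime.comap _
  have hy : y.comap (algebraMap S B') = maximalIdeal S := by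
    rw [Ideal.comap_comap, ← IsScalarTower.algebraMap_eq, hx]
  haveI : y.IsMaximal := Ideal.isMaximal_of_isIntegral_of_isMaximal_comap (R := S) y (hy ▸ inferInstance)
  obtain ⟨e, he, hey, heM, heu⟩ := exists_idempotent S y
  have hmem : ∀ (g : G) (M : Ideal B'), M.IsMaximal → ((∀ b, g • b ∈ M ↔ b ∈ y) ∨ g • e ∈ M) := by
    intro g M hM
    by_cases h : M.comap (MulSemiringAction.toRingHom G B' g) = y
    · exact Or.inl fun b => by rw [← h]; rfl
    · haveI : (M.comap (MulSemiringAction.toRingHom G B' g)).IsMaximal :=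
        Ideal.comap_isMaximal_of_surjective _ (fun b => ⟨g⁻¹ • b, smul_inv_smul g b⟩)
      exact Or.inr (heM _ this h)
  have hidg : ∀ g : G, (g • e) * (g • e) = g • e := fun g => by rw [← smul_mul', he]
  -- the inertia group fixes the idempotent, the other translates are orthogonal to it
  have hIy : ∀ σ ∈ I, ∀ b, σ • b ∈ y ↔ b ∈ y := fun σ hσ b => by
    show algebraMap B' A' (σ • b) ∈ x ↔ algebraMap B' A' b ∈ x
    rw [hequiv]; exact hI σ hσ _
  have hfix : ∀ σ ∈ I, σ • e = e := fun σ hσ => idem_eq (hidg σ) he fun M hM => by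
    rcases eq_or_ne M y with rfl | hne
    · exact hIy σ hσ e
    · refine iff_of_true ?_ (heM M hM hne)
      rcases hmem σ M hM with h | h
      · exact absurd (Ideal.ext fun b => (show b ∈ M ↔ b ∈ y by
          have h1 := h (σ⁻¹ • b)
          rw [smul_inv_smul] at h1
          exact h1.trans (hIy σ⁻¹ (inv_mem hσ) b))) hne
      · exact h
  have horth : ∀ g : G, g ∉ I → g • e ∈ y := fun g hg => by
    rcases hmem g y ‹_› with h | h
    · exact absurd (hI' g h) hg
    · exact h
  -- vanishing at the point
  have hvan : ∀ b : B', (∃ u ∉ x, u * algebraMap B' A' b = 0) → e * b = 0 := fun b hb => by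
    obtain ⟨v, hv, hvb⟩ := hloc₂ b hb
    obtain ⟨w, hw⟩ := heu v hv
    calc e * b = e * (v * w) * b := by rw [hw]
      _ = e * w * (v * b) := by ring
      _ = 0 := by rw [hvb, mul_zero]
  -- averaging over the cosets of the inertia group
  have havg : ∀ c : B', (∀ σ ∈ I, σ • c = c) → e * c = c →
      ∃ s : S, algebraMap S B' s = ∑ q : G ⧸ I, q.out • c ∧ e * (algebraMap S B' s - c) = 0 := by
    intro c hc hec
    obtain ⟨s, hs⟩ := hB (∑ q : G ⧸ I, q.out • c) fun g => by
      rw [Finset.smul_sum]
      refine Fintype.sum_equiv (MulAction.toPerm g) _ _ fun q => ?_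
      show g • q.out • c = (g • q).out • c
      have h1 : ((g • q).out : G ⧸ I) = ((g * q.out : G) : G ⧸ I) := by
        rw [QuotientGroup.out_eq']
        conv_lhs => rw [← QuotientGroup.out_eq' q]
        rfl
      rw [eq_comm, QuotientGroup.eq] at h1
      rw [smul_smul]
      conv_rhs => rw [show (g • q).out = g * q.out * ((g * q.out)⁻¹ * (g • q).out) by group, mul_smul, hc _ h1]
    refine ⟨s, hs, ?_⟩
    rw [hs, mul_sub, Finset.mul_sum, hec, Finset.sum_eq_single ((1 : G) : G ⧸ I)]
    · have h1 : (((1 : G) : G ⧸ I)).out ∈ I := by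
        have := QuotientGroup.out_eq' ((1 : G) : G ⧸ I)
        rw [eq_comm, QuotientGroup.eq] at this
        simpa using this
      rw [hc _ h1, hec, sub_self]
    · intro q _ hq
      have hg : q.out ∉ I := fun h => hq (by
        rw [← QuotientGroup.out_eq' q, QuotientGroup.eq]; simpa using h)
      have h2 : e * (q.out • e) = 0 := by
        refine idem_eq (e₂ := 0) ?_ (mul_zero 0) fun M hM => iff_of_true ?_ M.zero_mem
        · rw [mul_mul_mul_comm, he, hidg]
        · rcases eq_or_ne M y with rfl | hne
          · exact Ideal.mul_mem_left _ _ (horth _ hg)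
          · exact Ideal.mul_mem_right _ _ (heM M hM hne)
      rw [← hec, smul_mul', ← mul_assoc, h2, zero_mul]
    · exact fun h => absurd (Finset.mem_univ _) h
  -- descend annihilators to the invariants
  have hdesc : ∀ t : T, (∃ u ∉ x, u * j t = 0) → ∃ n ∉ x.comap j.toRingHom, n * t = 0 := by
    rintro t ⟨u, hu, hut⟩
    let xs : G → Ideal A' := fun g => x.comap (MulSemiringAction.toRingHom G A' g)
    haveI : ∀ g, (xs g).IsPrime := fun g => Ideal.IsPrime.comap _
    have hfixt : ∀ g : G, g • j t = j t := (hT (j t)).2 ⟨t, rfl⟩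
    have hK : ∀ v, v ∈ Submodule.colon (⊥ : Ideal A') (Ideal.span {j t} : Set A') ↔ v * j t = 0 := fun v => by
      simp [Submodule.mem_colon]
    have hnot : ¬ ((Submodule.colon (⊥ : Ideal A') (Ideal.span {j t} : Set A') : Ideal A') : Set A') ⊆
        ⋃ g ∈ ((Finset.univ : Finset G) : Set G), (xs g : Set A') := by
      rw [Ideal.subset_union_prime 1 1 (fun g _ _ _ => inferInstance)]
      rintro ⟨g, -, hg⟩
      refine hu ?_
      have h1 : g⁻¹ • u ∈ xs g := hg ((hK _).2 (by rw [← hfixt g⁻¹, ← smul_mul', hut, smul_zero]))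
      simpa [xs] using h1
    obtain ⟨v, hv, hvx⟩ := Set.not_subset.1 hnot
    simp only [Set.mem_iUnion, not_exists, Finset.coe_univ, Set.mem_univ, true_and, SetLike.mem_coe] at hvx
    obtain ⟨n, hn⟩ := (hT (∏ g : G, g • v)).1 fun g => by
      rw [Finset.smul_prod']
      exact Fintype.prod_equiv (Equiv.mulLeft g) _ _ fun h => by simp [mul_smul]
    refine ⟨n, fun h => ?_, hj ?_⟩
    · change j n ∈ x at h
      rw [hn] at h
      obtain ⟨g, -, hg⟩ := (inferInstance : x.IsPrime).prod_mem_iff.1 h
      exact hvx g trivial hg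
    · rw [map_mul, hn, map_zero, ← Finset.mul_prod_erase Finset.univ _ (Finset.mem_univ (1 : G)), one_smul,
        mul_comm v, mul_assoc, (hK v).1 hv, mul_zero]
  have hex : algebraMap B' A' e ∉ x := hey
  constructor
  · intro t
    obtain ⟨b, u, hu, hub⟩ := hloc₁ (j t)
    have hc : ∀ σ ∈ I, σ • (e * b) = e * b := fun σ hσ => by
      have hσu : σ • u ∉ x := fun h => hu ((hI σ hσ u).1 h)
      have h1 : (σ • u) * (j t - algebraMap B' A' (σ • b)) = 0 := by
        rw [hequiv, ← (hT (j t)).2 ⟨t, rfl⟩ σ, ← smul_sub, ← smul_mul', hub, smul_zero]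
      have h2 := hvan (σ • b - b) ⟨u * (σ • u), fun h => ((inferInstance : x.IsPrime).mem_or_mem h).elim hu hσu, by
        rw [map_sub]
        linear_combination (σ • u) * hub - u * h1⟩
      rw [smul_mul', hfix σ hσ]
      linear_combination h2
    obtain ⟨s, -, hs⟩ := havg (e * b) hc (by rw [← mul_assoc, he])
    refine ⟨s, hdesc _ ⟨algebraMap B' A' e * u, fun h => ((inferInstance : x.IsPrime).mem_or_mem h).elim hex hu, ?_⟩⟩
    have h3 := congrArg (algebraMap B' A') hs
    rw [map_mul, map_sub, map_zero, map_mul] at h3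
    have h4 := congrArg (algebraMap B' A') he
    rw [map_mul] at h4
    rw [map_sub, AlgHom.commutes, IsScalarTower.algebraMap_apply S B' A']
    linear_combination (algebraMap B' A' e) * hub - u * h3 - u * (algebraMap B' A' b) * h4
  · rintro s ⟨n, hn, hns⟩
    have h0 : e * algebraMap S B' s = 0 := hvan _ ⟨j n, hn, by
      rw [← IsScalarTower.algebraMap_apply, ← j.commutes, ← map_mul, hns, map_zero]⟩
    obtain ⟨s₁, hs₁, hs₁'⟩ := havg e hfix he
    have hmul : algebraMap S B' (s₁ * s) = 0 := by
      rw [map_mul, hs₁, Finset.sum_mul]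
      refine Finset.sum_eq_zero fun q _ => ?_
      rw [← hS q.out s, ← smul_mul', h0, smul_zero]
    have hu1 : IsUnit s₁ := by
      by_contra h
      have h1 : algebraMap S B' s₁ ∈ y := by
        have : s₁ ∈ y.comap (algebraMap S B') := hy ▸ (mem_maximalIdeal s₁).2 h
        exact this
      rw [mul_sub, he, sub_eq_zero] at hs₁'
      exact hey (hs₁' ▸ y.mul_mem_left e h1)
    exact hu1.mul_right_eq_zero.1 (hinjS (by rw [hmul, map_zero]))

end Invariant

end Groth.Agent.InvEtaleLib
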