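import Groth.Agent.InvEtaleLib.Core
import Groth.Agent.CMFlatLib.Misc
import Groth.Agent.SHInter.Basic
import Groth.Agent.S12933

/-!
# Étaleness of invariants of an equivariant map which is étale and preserves inertia
-/

set_option autoImplicit false
set_option backward.isDefEq.respectTransparency false
set_option linter.style.haveILetI false
set_option linter.unusedSectionVars false
set_option maxHeartbeats 1000000
set_option synthInstance.maxHeartbeats 100000

universe u

open IsLocalRing TensorProduct

noncomputable section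

namespace Groth.Agent.InvEtaleLib

attribute [local instance] Algebra.TensorProduct.rightAlgebra

/-- Flatness descends from a faithfully flat algebra over the module's ring. -/
theorem flat_of_faithfullyFlat (P M L : Type u) [CommRing P] [CommRing M] [CommRing L] [Algebra P M] [Algebra M L]
    [Algebra P L] [IsScalarTower P M L] [Module.FaithfullyFlat M L] [Module.Flat P L] : Module.Flat P M := by
  rw [Module.Flat.iff_lTensor_preserves_injective_linearMap]
  intro N N' _ _ _ _ f hf x y hxy
  have hnat : ∀ z : M ⊗[P] N, LinearMap.rTensor N' (IsScalarTower.toAlgHom P M L).toLinearMap (LinearMap.lTensor M f z) =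
      LinearMap.lTensor L f (LinearMap.rTensor N (IsScalarTower.toAlgHom P M L).toLinearMap z) := fun z => by
    induction z using TensorProduct.induction_on with
    | zero => simp
    | tmul a b => simp
    | add a b ha hb => simp only [map_add, ha, hb]
  have h1 := congrArg (LinearMap.rTensor N' (IsScalarTower.toAlgHom P M L).toLinearMap) hxy
  rw [hnat, hnat] at h1
  have h2 := (Module.Flat.lTensor_preserves_injective_linearMap (M := L) f hf) h1
  have hcomp : ∀ z : M ⊗[P] N, LinearMap.rTensor N (IsScalarTower.toAlgHom P M L).toLinearMap z =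
      AlgebraTensorModule.cancelBaseChange P M M L N ((1 : L) ⊗ₜ[M] z) := fun z => by
    induction z using TensorProduct.induction_on with
    | zero => simp
    | tmul a b => simp [Algebra.smul_def]
    | add a b ha hb => simp only [map_add, tmul_add, ha, hb]
  rw [hcomp, hcomp] at h2
  exact Module.FaithfullyFlat.tensorProduct_mk_injective (A := M) (B := L) _
    ((AlgebraTensorModule.cancelBaseChange P M M L N).injective h2)

theorem map_maximalIdeal_of_equiv' {S L : Type u} [CommRing S] [IsLocalRing S] [CommRing L] [IsLocalRing L]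
    (e : S ≃+* L) : (maximalIdeal S).map e.toRingHom = maximalIdeal L := by
  haveI : IsLocalHom e.toRingHom := ⟨fun a ha => by simpa using ha.map e.symm⟩
  rw [← IsLocalRing.maximalIdeal_comap e.toRingHom]
  exact Ideal.map_comap_of_surjective e.toRingHom e.surjective _

section Action

variable (P S B G : Type u) [CommRing P] [CommRing S] [Algebra P S] [CommRing B] [Algebra P B]
  [Group G] [MulSemiringAction G B] [SMulCommClass G P B]

/-- The action on the base change. -/
@[reducible]
def tensorAction : MulSemiringAction G (S ⊗[P] B) where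
  smul g x := Algebra.TensorProduct.map (AlgHom.id P S) (MulSemiringAction.toAlgHom P B g) x
  one_smul x := by
    show Algebra.TensorProduct.map _ _ x = x
    induction x using TensorProduct.induction_on with
    | zero => simp
    | tmul a b => simp
    | add a b ha hb => rw [map_add, ha, hb]
  mul_smul g h x := by
    show Algebra.TensorProduct.map _ _ x = Algebra.TensorProduct.map _ _ (Algebra.TensorProduct.map _ _ x)
    induction x using TensorProduct.induction_on with
    | zero => simp
    | tmul a b => simp [mul_smul]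
    | add a b ha hb => simp only [map_add, ha, hb]
  smul_zero g := map_zero _
  smul_add g := map_add _
  smul_one g := map_one _
  smul_mul g := map_mul _

end Action

/-- Étaleness of invariants at a point, for abstract rings of invariants. -/
theorem isEtaleAt_of_isInvariant (P Q A B : Type u) [CommRing P] [CommRing Q] [CommRing A] [CommRing B]
    [Algebra P B] [Algebra P A] [Algebra P Q] [Algebra Q A] [Algebra B A] [IsScalarTower P Q A] [IsScalarTower P B A]
    (G : Type u) [Group G] [Finite G] [MulSemiringAction G A] [MulSemiringAction G B]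
    [SMulCommClass G P B] [SMulCommClass G P A] [SMulCommClass G Q A]
    [Algebra.IsInvariant P B G] [Algebra.IsInvariant Q A G]
    (hPB : Function.Injective (algebraMap P B)) (hQA : Function.Injective (algebraMap Q A))
    [IsNoetherianRing P] [Module.Finite P B] [Algebra.FiniteType P Q] [Algebra.FinitePresentation B A]
    (hGeq : ∀ (g : G) (b : B), algebraMap B A (g • b) = g • algebraMap B A b)
    (x : Ideal A) [x.IsMaximal] (hx : Algebra.IsEtaleAt B x)
    (hin : x.inertia G = (x.comap (algebraMap B A)).inertia G) :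
    Algebra.IsEtaleAt P (x.comap (algebraMap Q A)) := by
  classical
  haveI : Algebra.FinitePresentation P Q := Algebra.FinitePresentation.of_finiteType.1 inferInstance
  haveI := hx
  obtain ⟨f, hf, hfet⟩ := Algebra.exists_etale_of_isEtaleAt (R := B) x
  -- the strict henselization of the invariants
  let p : Ideal P := x.comap (algebraMap P A)
  haveI : p.IsPrime := Ideal.IsPrime.comap _
  let Ap := Localization.AtPrime p
  obtain ⟨S, _, _, _, _, hS⟩ := Henselization.exists_strictHenselization (R := Ap)
  haveI := hS
  haveI : HenselianLocalRing S := Hensel.IsStrictHenselization.henselian (R := Ap)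
  haveI : IsSepClosure (ResidueField Ap) (ResidueField S) := Hensel.IsStrictHenselization.isSepClosure
  haveI : IsSepClosed (ResidueField S) := IsSepClosure.sep_closed (ResidueField Ap)
  haveI : Module.Flat Ap S := SHInter.flat_sh
  letI : Algebra P S := ((algebraMap Ap S).comp (algebraMap P Ap)).toAlgebra
  haveI : IsScalarTower P Ap S := IsScalarTower.of_algebraMap_eq' rfl
  haveI : Module.Flat P Ap := IsLocalization.flat Ap p.primeCompl
  haveI : Module.Flat P S := Module.Flat.trans P Ap S
  -- a geometric point over the given point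
  letI : Field (A ⧸ x) := Ideal.Quotient.field x
  let Ω := AlgebraicClosure (A ⧸ x)
  let π₀ : A →+* Ω := (algebraMap (A ⧸ x) Ω).comp (Ideal.Quotient.mk x)
  have hπ₀ : ∀ a, π₀ a = 0 ↔ a ∈ x := fun a => by
    show algebraMap (A ⧸ x) Ω _ = 0 ↔ _
    rw [map_eq_zero_iff _ (algebraMap (A ⧸ x) Ω).injective, Ideal.Quotient.eq_zero_iff_mem]
  have hup : ∀ s : p.primeCompl, IsUnit ((π₀.comp (algebraMap P A)) s) := fun s =>
    IsUnit.mk0 _ fun h => s.2 ((hπ₀ _).1 h)
  let χA : Ap →+* Ω := IsLocalization.lift (M := p.primeCompl) hup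
  have hχA : ∀ a, χA (algebraMap P Ap a) = π₀ (algebraMap P A a) := fun a => IsLocalization.lift_eq hup a
  have hker : ∀ a ∈ maximalIdeal Ap, χA a = 0 := fun a ha => by
    obtain ⟨b, s, rfl⟩ := IsLocalization.exists_mk'_eq p.primeCompl a
    have hb : b ∈ p := (IsLocalization.AtPrime.mk'_mem_maximal_iff Ap p b s).1 ha
    have h1 := congrArg χA (IsLocalization.mk'_spec Ap b s)
    rw [map_mul, hχA, hχA, (hπ₀ _).2 hb] at h1
    exact (mul_eq_zero.1 h1).resolve_right (hup s).ne_zero
  letI : Algebra (ResidueField Ap) Ω := (Ideal.Quotient.lift (maximalIdeal Ap) χA hker).toAlgebra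
  haveI : Algebra.IsAlgebraic (ResidueField Ap) (ResidueField S) := by
    haveI := IsSepClosure.separable (k := ResidueField Ap) (K := ResidueField S)
    infer_instance
  haveI : Module.IsTorsionFree (ResidueField Ap) Ω :=
    Module.isTorsionFree_iff_algebraMap_injective.2 (algebraMap (ResidueField Ap) Ω).injective
  let ω : ResidueField S →ₐ[ResidueField Ap] Ω := IsAlgClosed.lift
  letI : Algebra P Ω := (π₀.comp (algebraMap P A)).toAlgebra
  have hωS : ∀ a : P, ω (residue S (algebraMap P S a)) = π₀ (algebraMap P A a) := fun a => by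
    show ω (residue S (algebraMap Ap S (algebraMap P Ap a))) = _
    rw [show residue S (algebraMap Ap S (algebraMap P Ap a)) =
      algebraMap (ResidueField Ap) (ResidueField S) (residue Ap (algebraMap P Ap a)) from rfl, AlgHom.commutes]
    exact hχA a
  let aS : S →ₐ[P] Ω := { (ω.toRingHom.comp (residue S)) with commutes' := hωS }
  let πA : A →ₐ[P] Ω := { π₀ with commutes' := fun _ => rfl }
  let θ : S ⊗[P] A →ₐ[P] Ω := Algebra.TensorProduct.lift aS πA fun _ _ => Commute.all _ _
  have hθ : ∀ (s : S) (a : A), θ (s ⊗ₜ a) = ω (residue S s) * π₀ a := fun s a =>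
    Algebra.TensorProduct.lift_tmul aS πA (fun _ _ => Commute.all _ _) s a
  let x' : Ideal (S ⊗[P] A) := RingHom.ker θ.toRingHom
  haveI : x'.IsPrime := RingHom.ker_isPrime _
  have hx' : x'.comap (algebraMap S (S ⊗[P] A)) = maximalIdeal S := by
    ext s
    show θ (s ⊗ₜ 1) = 0 ↔ _
    rw [hθ, map_one, mul_one, map_eq_zero_iff ω ω.toRingHom.injective, IsLocalRing.residue_eq_zero_iff]
  -- the base change of the map
  let BA : B →ₐ[P] A := IsScalarTower.toAlgHom P B A
  let F : S ⊗[P] B →ₐ[S] S ⊗[P] A := Algebra.TensorProduct.map (AlgHom.id S S) BA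
  letI : Algebra (S ⊗[P] B) (S ⊗[P] A) := F.toRingHom.toAlgebra
  haveI : IsScalarTower S (S ⊗[P] B) (S ⊗[P] A) := IsScalarTower.of_algebraMap_eq fun s => (F.commutes s).symm
  have hFt : ∀ (s : S) (b : B), algebraMap (S ⊗[P] B) (S ⊗[P] A) (s ⊗ₜ b) = s ⊗ₜ algebraMap B A b := fun s b => rfl
  let β : B →+* S ⊗[P] B := (Algebra.TensorProduct.includeRight (R := P) (A := S) (B := B)).toRingHom
  let α : A →+* S ⊗[P] A := (Algebra.TensorProduct.includeRight : A →ₐ[P] S ⊗[P] A).toRingHom
  have hgen : Subring.closure (Set.range (algebraMap (S ⊗[P] B) (S ⊗[P] A)) ∪ Set.range α) = ⊤ := by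
    refine eq_top_iff.2 fun z _ => ?_
    induction z using TensorProduct.induction_on with
    | zero => exact Subring.zero_mem _
    | tmul s a =>
      have : s ⊗ₜ[P] a = algebraMap (S ⊗[P] B) (S ⊗[P] A) (s ⊗ₜ 1) * α a := by
        rw [hFt, map_one]
        exact ((Algebra.TensorProduct.tmul_mul_tmul _ _ _ _).trans (by rw [mul_one, one_mul])).symm
      rw [this]
      exact Subring.mul_mem _ (Subring.subset_closure (Or.inl ⟨_, rfl⟩)) (Subring.subset_closure (Or.inr ⟨a, rfl⟩))
    | add a b ha hb => exact Subring.add_mem _ (ha trivial) (hb trivial)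
  have hlift : ∀ (C : Type u) [CommRing C] (γ : S ⊗[P] B →+* C) (τ : A →+* C),
      γ.comp β = τ.comp (algebraMap B A) →
        ∃ ρ : S ⊗[P] A →+* C, ρ.comp (algebraMap (S ⊗[P] B) (S ⊗[P] A)) = γ ∧ ρ.comp α = τ := by
    intro C _ γ τ hγτ
    letI : Algebra P C := (γ.comp (algebraMap P (S ⊗[P] B))).toAlgebra
    let γS : S →ₐ[P] C :=
      { γ.comp (algebraMap S (S ⊗[P] B)) with commutes' := fun _ => rfl }
    let τA : A →ₐ[P] C :=
      { τ with
        commutes' := fun a => by
          show τ (algebraMap P A a) = γ (algebraMap P (S ⊗[P] B) a)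
          rw [← (Algebra.TensorProduct.includeRight : B →ₐ[P] S ⊗[P] B).commutes a,
            IsScalarTower.algebraMap_apply P B A]
          exact congr($hγτ (algebraMap P B a)).symm }
    refine ⟨(Algebra.TensorProduct.lift γS τA fun _ _ => Commute.all _ _).toRingHom, RingHom.ext fun z => ?_,
      RingHom.ext fun a => ?_⟩
    · induction z using TensorProduct.induction_on with
      | zero => simp
      | tmul s b =>
        show Algebra.TensorProduct.lift γS τA (fun _ _ => Commute.all _ _) (s ⊗ₜ algebraMap B A b) = _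
        rw [Algebra.TensorProduct.lift_tmul]
        show γ (s ⊗ₜ 1) * τ (algebraMap B A b) = _
        rw [show τ (algebraMap B A b) = γ (1 ⊗ₜ b) from congr($hγτ b).symm, ← map_mul,
          Algebra.TensorProduct.tmul_mul_tmul, mul_one, one_mul]
      | add a b ha hb => rw [map_add, map_add, ha, hb]
    · show Algebra.TensorProduct.lift γS τA (fun _ _ => Commute.all _ _) ((1 : S) ⊗ₜ a) = _
      rw [Algebra.TensorProduct.lift_tmul, map_one, one_mul]
      rfl
  obtain ⟨hloc₁, hloc₂⟩ := exists_local_inverse (S := S) f β α (fun b => rfl) hgen hlift x' hx'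
    (fun h => hf ((hπ₀ f).1 (by
      have h1 : θ ((1 : S) ⊗ₜ f) = 0 := h
      rwa [hθ, map_one, map_one, one_mul] at h1)))
  -- the actions
  letI : MulSemiringAction G (S ⊗[P] B) := tensorAction P S B G
  letI : MulSemiringAction G (S ⊗[P] A) := tensorAction P S A G
  have hsB : ∀ (g : G) (s : S) (b : B), g • (s ⊗ₜ[P] b) = s ⊗ₜ (g • b) := fun g s b => rfl
  have hsA : ∀ (g : G) (s : S) (a : A), g • (s ⊗ₜ[P] a) = s ⊗ₜ (g • a) := fun g s a => rfl
  have hequiv : ∀ (g : G) (z : S ⊗[P] B),
      algebraMap (S ⊗[P] B) (S ⊗[P] A) (g • z) = g • algebraMap (S ⊗[P] B) (S ⊗[P] A) z := fun g z => by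
    induction z using TensorProduct.induction_on with
    | zero => simp
    | tmul s b => rw [hsB, hFt, hFt, hsA, hGeq]
    | add a b ha hb => rw [smul_add, map_add, map_add, smul_add, ha, hb]
  have hSfix : ∀ (g : G) (s : S), g • algebraMap S (S ⊗[P] B) s = algebraMap S (S ⊗[P] B) s := fun g s => by
    show g • (s ⊗ₜ[P] (1 : B)) = s ⊗ₜ 1
    rw [hsB, smul_one]
  have hinjS : Function.Injective (algebraMap S (S ⊗[P] B)) :=
    Algebra.TensorProduct.includeLeft_injective (S := S) hPB
  have hB : ∀ z : S ⊗[P] B, (∀ g : G, g • z = z) → ∃ s, algebraMap S (S ⊗[P] B) s = z := by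
    intro z hz
    have hm := (Groth.Agent.S12933.result P B G S z).1 hz
    clear hz
    induction hm using Submodule.span_induction with
    | mem y hy =>
      obtain ⟨b, hb, rfl⟩ := hy
      obtain ⟨b, rfl⟩ := Algebra.IsInvariant.isInvariant (A := P) b hb
      exact ⟨algebraMap P S b, ((Algebra.TensorProduct.includeRight : B →ₐ[P] S ⊗[P] B).commutes b).symm⟩
    | zero => exact ⟨0, map_zero _⟩
    | add a b _ _ ha hb =>
      obtain ⟨s, rfl⟩ := ha
      obtain ⟨t, rfl⟩ := hb
      exact ⟨s + t, map_add _ _ _⟩
    | smul r a _ ha =>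
      obtain ⟨s, rfl⟩ := ha
      exact ⟨r * s, by rw [map_mul, Algebra.smul_def]⟩
  let T := Q ⊗[P] S
  let QA : Q →ₐ[P] A := IsScalarTower.toAlgHom P Q A
  let j₀ : T →ₐ[P] S ⊗[P] A := Algebra.TensorProduct.lift
    ((Algebra.TensorProduct.includeRight : A →ₐ[P] S ⊗[P] A).comp QA)
    (Algebra.TensorProduct.includeLeft : S →ₐ[P] S ⊗[P] A) fun _ _ => Commute.all _ _
  have hj₀ : ∀ (a : Q) (s : S), j₀ (a ⊗ₜ s) = s ⊗ₜ algebraMap Q A a := fun a s => by
    rw [Algebra.TensorProduct.lift_tmul]
    show ((1 : S) ⊗ₜ[P] algebraMap Q A a) * (s ⊗ₜ[P] (1 : A)) = _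
    rw [Algebra.TensorProduct.tmul_mul_tmul, one_mul, mul_one]
  let j : T →ₐ[S] S ⊗[P] A :=
    { j₀.toRingHom with
      commutes' := fun s => by
        show j₀ ((1 : Q) ⊗ₜ s) = s ⊗ₜ 1
        rw [hj₀, map_one] }
  have hj : Function.Injective j := by
    have h : ∀ t, j t = LinearMap.lTensor S QA.toLinearMap (TensorProduct.comm P Q S t) := fun t => by
      induction t using TensorProduct.induction_on with
      | zero => simp
      | tmul a s => exact (hj₀ a s).trans rfl
      | add a b ha hb => rw [map_add, map_add, map_add, ha, hb]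
    intro a b hab
    rw [h, h] at hab
    exact (TensorProduct.comm P Q S).injective
      (Module.Flat.lTensor_preserves_injective_linearMap QA.toLinearMap hQA hab)
  have hjfix : ∀ (g : G) (t : T), g • j t = j t := fun g t => by
    induction t using TensorProduct.induction_on with
    | zero => simp
    | tmul a s =>
      show g • j₀ (a ⊗ₜ s) = j₀ (a ⊗ₜ s)
      rw [hj₀, hsA, smul_algebraMap]
    | add a b ha hb => rw [map_add, smul_add, ha, hb]
  have hT : ∀ z : S ⊗[P] A, (∀ g : G, g • z = z) ↔ z ∈ Set.range j := fun z => by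
    refine ⟨fun hz => ?_, ?_⟩
    · have hm := (Groth.Agent.S12933.result P A G S z).1 hz
      clear hz
      induction hm using Submodule.span_induction with
      | mem y hy =>
        obtain ⟨a, ha, rfl⟩ := hy
        obtain ⟨a, rfl⟩ := Algebra.IsInvariant.isInvariant (A := Q) a ha
        exact ⟨a ⊗ₜ 1, hj₀ _ _⟩
      | zero => exact ⟨0, map_zero _⟩
      | add a b _ _ ha hb =>
        obtain ⟨s, rfl⟩ := ha
        obtain ⟨t, rfl⟩ := hb
        exact ⟨s + t, map_add _ _ _⟩
      | smul r a _ ha =>
        obtain ⟨t, rfl⟩ := ha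
        exact ⟨r • t, map_smul j r t⟩
    · rintro ⟨t, rfl⟩ g
      exact hjfix g t
  have hI : ∀ σ ∈ x.inertia G, ∀ z, σ • z ∈ x' ↔ z ∈ x' := fun σ hσ z => by
    have h : θ (σ • z) = θ z := by
      induction z using TensorProduct.induction_on with
      | zero => simp
      | tmul s a =>
        rw [hsA, hθ, hθ]
        congr 1
        rw [← sub_eq_zero, ← map_sub, hπ₀]
        exact hσ a
      | add a b ha hb => rw [smul_add, map_add, map_add, ha, hb]
    show θ (σ • z) = 0 ↔ θ z = 0
    rw [h]
  have hI' : ∀ σ : G, (∀ z : S ⊗[P] B, σ • z ∈ x'.comap (algebraMap (S ⊗[P] B) (S ⊗[P] A)) ↔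
      z ∈ x'.comap (algebraMap (S ⊗[P] B) (S ⊗[P] A))) → σ ∈ x.inertia G := fun σ hσ => by
    let θB : S ⊗[P] B →+* Ω := θ.toRingHom.comp (algebraMap (S ⊗[P] B) (S ⊗[P] A))
    have hθS : θB.comp (algebraMap S (S ⊗[P] B)) = ω.toRingHom.comp (residue S) := RingHom.ext fun s => by
      show θ (s ⊗ₜ algebraMap B A 1) = _
      rw [hθ, map_one, map_one, mul_one]
      rfl
    have h := NormEtLib.eq_of_ker_eq (R := S) (θB.comp (MulSemiringAction.toRingHom G (S ⊗[P] B) σ)) θB ω.toRingHom
      (by
        refine RingHom.ext fun s => ?_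
        show θB (σ • algebraMap S (S ⊗[P] B) s) = _
        rw [hSfix]
        exact congr($hθS s))
      hθS (Ideal.ext fun z => hσ z)
    rw [hin]
    intro b
    show algebraMap B A (σ • b - b) ∈ x
    have h1 : θ ((1 : S) ⊗ₜ algebraMap B A (σ • b)) = θ ((1 : S) ⊗ₜ algebraMap B A b) := congr($h ((1 : S) ⊗ₜ b))
    rw [hθ, hθ, map_one, map_one, one_mul, one_mul, ← sub_eq_zero, ← map_sub, ← map_sub, hπ₀] at h1
    exact h1
  obtain ⟨hsurj, hzero⟩ := invariants_local (S := S) hequiv hinjS hSfix hB j hj hT x' hx' hloc₁ hloc₂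
    (x.inertia G) hI hI'
  -- the local ring of the base-changed invariants is the henselization
  let xT := x'.comap j.toRingHom
  haveI : xT.IsPrime := Ideal.IsPrime.comap _
  let L := Localization.AtPrime xT
  have hxT : xT.comap (algebraMap S T) = maximalIdeal S := by
    rw [Ideal.comap_comap, show j.toRingHom.comp (algebraMap S T) = algebraMap S (S ⊗[P] A) from
      RingHom.ext j.commutes, hx']
  have hbij : Function.Bijective (algebraMap S L) := by
    refine ⟨(injective_iff_map_eq_zero _).2 fun s hs => ?_, fun z => ?_⟩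
    · rw [IsScalarTower.algebraMap_apply S T L] at hs
      obtain ⟨⟨n, hn⟩, h⟩ := (IsLocalization.map_eq_zero_iff xT.primeCompl L _).1 hs
      exact hzero s ⟨n, hn, h⟩
    · obtain ⟨t, ⟨n, hn⟩, rfl⟩ := IsLocalization.exists_mk'_eq xT.primeCompl z
      have hex : ∀ t : T, ∃ s : S, algebraMap S L s = algebraMap T L t := fun t => by
        obtain ⟨s, m, hm, hmt⟩ := hsurj t
        refine ⟨s, ?_⟩
        rw [IsScalarTower.algebraMap_apply S T L]
        exact ((IsLocalization.eq_iff_exists xT.primeCompl L).2
          ⟨⟨m, hm⟩, by rwa [mul_sub, sub_eq_zero] at hmt⟩).symm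
      obtain ⟨s, hs⟩ := hex t
      obtain ⟨s', hs'⟩ := hex n
      have hu : IsUnit s' := by
        by_contra h
        have h1 : algebraMap S T s' ∈ xT := by
          have : s' ∈ xT.comap (algebraMap S T) := hxT ▸ (mem_maximalIdeal s').2 h
          exact this
        refine (IsLocalization.AtPrime.isUnit_to_map_iff L xT n).2 hn |> fun h2 => ?_
        rw [← hs', IsScalarTower.algebraMap_apply S T L] at h2
        exact (IsLocalization.AtPrime.isUnit_to_map_iff L xT _).1 h2 h1
      refine ⟨s * ↑hu.unit⁻¹, ?_⟩
      rw [IsLocalization.eq_mk'_iff_mul_eq]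
      show algebraMap S L (s * ↑hu.unit⁻¹) * algebraMap T L n = algebraMap T L t
      rw [← hs', ← map_mul, mul_assoc, IsUnit.val_inv_mul, mul_one, hs]
  haveI : Module.Flat S L := Module.Flat.of_linearEquiv
    (LinearEquiv.ofBijective (Algebra.linearMap S L) hbij).symm
  haveI : IsScalarTower P S T := IsScalarTower.of_algebraMap_eq fun a =>
    ((Algebra.TensorProduct.includeRight : S →ₐ[P] T).commutes a).symm
  haveI : IsScalarTower P S L := IsScalarTower.of_algebraMap_eq fun a => by
    rw [IsScalarTower.algebraMap_apply P T L, IsScalarTower.algebraMap_apply P S T, ← IsScalarTower.algebraMap_apply S T L]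
  haveI : Module.Flat P L := Module.Flat.trans P S L
  -- descend to the invariants
  let q : Ideal Q := x.comap (algebraMap Q A)
  haveI : q.IsPrime := Ideal.IsPrime.comap _
  have hq : xT.comap (algebraMap Q T) = q := by
    ext a
    show θ (j₀ (a ⊗ₜ 1)) = 0 ↔ _
    rw [hj₀, hθ, map_one, map_one, one_mul, hπ₀]
    rfl
  haveI : xT.LiesOver q := ⟨hq.symm⟩
  let Qq := Localization.AtPrime q
  letI : Algebra Qq L := Localization.AtPrime.algebraOfLiesOver q xT
  haveI : IsScalarTower Q Qq L := inferInstance
  haveI : IsScalarTower P Qq L := IsScalarTower.of_algebraMap_eq fun a => by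
    rw [IsScalarTower.algebraMap_apply P Q Qq, ← IsScalarTower.algebraMap_apply Q Qq L,
      IsScalarTower.algebraMap_apply P T L, IsScalarTower.algebraMap_apply P Q T, ← IsScalarTower.algebraMap_apply Q T L]
  haveI : Module.Flat T L := IsLocalization.flat L xT.primeCompl
  haveI : Module.Flat Q L := Module.Flat.trans Q T L
  haveI : Module.Flat Qq L := (Module.flat_iff_of_isLocalization Qq q.primeCompl L).2 inferInstance
  haveI : IsLocalHom (algebraMap Qq L) := by
    rw [Localization.AtPrime.IsLiesOverAlgebra.algebraMap_eq (p := q) (P := xT)]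
    exact Localization.isLocalHom_localRingHom _ _ _ _
  haveI : Module.FaithfullyFlat Qq L := Module.FaithfullyFlat.of_flat_of_isLocalHom
  haveI : Module.Flat P Qq := flat_of_faithfullyFlat P Qq L
  haveI : q.LiesOver p := ⟨by
    show p = q.comap (algebraMap P Q)
    rw [Ideal.comap_comap, ← IsScalarTower.algebraMap_eq]⟩
  letI : Algebra Ap Qq := Localization.AtPrime.algebraOfLiesOver p q
  let eSL : S ≃+* L := RingEquiv.ofBijective (algebraMap S L) hbij
  let g : Qq →+* S := eSL.symm.toRingHom.comp (algebraMap Qq L)
  haveI : IsLocalHom g := by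
    haveI : IsLocalHom eSL.symm.toRingHom := ⟨fun a ha => by simpa using ha.map eSL⟩
    exact RingHom.isLocalHom_comp _ _
  have hg : g.comp (algebraMap Ap Qq) = algebraMap Ap S := IsLocalization.ringHom_ext p.primeCompl (RingHom.ext fun a => by
    show eSL.symm (algebraMap Qq L (algebraMap Ap Qq (algebraMap P Ap a))) = algebraMap Ap S (algebraMap P Ap a)
    rw [← IsScalarTower.algebraMap_apply P Ap Qq, ← IsScalarTower.algebraMap_apply P Qq L,
      ← IsScalarTower.algebraMap_apply P Ap S]
    refine eSL.injective ?_
    rw [RingEquiv.apply_symm_apply]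
    exact IsScalarTower.algebraMap_apply P S L a)
  haveI : Algebra.IsUnramifiedAt P q := by
    rw [Algebra.isUnramifiedAt_iff_map_eq P p q]
    refine ⟨?_, ?_⟩
    · let fκ : q.ResidueField →ₐ[p.ResidueField] ResidueField S :=
        { ResidueField.map g with
          commutes' := fun z => by
            obtain ⟨a, rfl⟩ := IsLocalRing.residue_surjective (R := Ap) z
            show residue S (g (algebraMap Ap Qq a)) = residue S (algebraMap Ap S a)
            rw [← hg]
            rfl }
      haveI : Algebra.IsSeparable p.ResidueField (ResidueField S) :=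
        IsSepClosure.separable (k := ResidueField Ap) (K := ResidueField S)
      exact Algebra.IsSeparable.of_algHom p.ResidueField (ResidueField S) fκ
    · rw [← Ideal.comap_map_eq_self_of_faithfullyFlat (B := L) (p.map (algebraMap P Qq))]
      have h1 : (p.map (algebraMap P Qq)).map (algebraMap Qq L) = maximalIdeal L := by
        rw [Ideal.map_map, ← IsScalarTower.algebraMap_eq P Qq L, IsScalarTower.algebraMap_eq P S L,
          ← Ideal.map_map, IsScalarTower.algebraMap_eq P Ap S, ← Ideal.map_map,
          Localization.AtPrime.map_eq_maximalIdeal, SHInter.map_maximalIdeal_sh,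
          show maximalIdeal L = (maximalIdeal S).map eSL.toRingHom from (map_maximalIdeal_of_equiv' eSL).symm]
        rfl
      rw [h1]
      exact IsLocalRing.maximalIdeal_comap (algebraMap Qq L)
  exact CMFlatLib.isEtaleAt_of_unramified_flat q


/-- The invariant rings are étale at the image of a point where the map is étale and preserves inertia. -/
theorem isEtaleAt_invariants (R : Type u) [CommRing R]
    [IsNoetherianRing R] (A B : Type u) [CommRing A] [CommRing B] [Algebra R A] [Algebra R B]
    [Algebra.FiniteType R A] [Algebra.FiniteType R B]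
    (G : Type u) [Group G] [Finite G] [MulSemiringAction G A] [MulSemiringAction G B]
    [SMulCommClass G R A] [SMulCommClass G R B]
    [Algebra B A] [IsScalarTower R B A]
    (hGeq : ∀ (g : G) (b : B), algebraMap B A (g • b) = g • algebraMap B A b)
    [Algebra (FixedPoints.subalgebra R B G) (FixedPoints.subalgebra R A G)]
    [IsScalarTower (FixedPoints.subalgebra R B G) (FixedPoints.subalgebra R A G) A]
    (x : Ideal A) [x.IsMaximal] (hx : Algebra.IsEtaleAt B x)
    (hin : x.inertia G = (x.comap (algebraMap B A)).inertia G) :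
    Algebra.IsEtaleAt (FixedPoints.subalgebra R B G)
      (x.comap (algebraMap (FixedPoints.subalgebra R A G) A)) := by
  classical
  let P := FixedPoints.subalgebra R B G
  let Q := FixedPoints.subalgebra R A G
  haveI : SMulCommClass G P B := ⟨fun g p b => by
    show g • ((p : B) * b) = (p : B) * (g • b)
    rw [smul_mul', show g • (p : B) = (p : B) from p.2 g]⟩
  haveI : SMulCommClass G P A := ⟨fun g p a => by
    rw [Algebra.smul_def, Algebra.smul_def, smul_mul']
    congr 1
    show g • algebraMap B A (p : B) = algebraMap B A (p : B)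
    rw [← hGeq, show g • (p : B) = (p : B) from p.2 g]⟩
  haveI : SMulCommClass G Q A := ⟨fun g q a => by
    show g • ((q : A) * a) = (q : A) * (g • a)
    rw [smul_mul', show g • (q : A) = (q : A) from q.2 g]⟩
  haveI : Algebra.IsInvariant P B G := ⟨fun b hb => ⟨⟨b, hb⟩, rfl⟩⟩
  haveI : Algebra.IsInvariant Q A G := ⟨fun a ha => ⟨⟨a, ha⟩, rfl⟩⟩
  haveI : IsScalarTower R P Q := IsScalarTower.of_algebraMap_eq fun r => Subtype.ext (by
    show algebraMap R A r = algebraMap Q A (algebraMap P Q (algebraMap R P r))
    rw [← IsScalarTower.algebraMap_apply P Q A]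
    exact IsScalarTower.algebraMap_apply R B A r)
  haveI : Algebra.IsIntegral P B := Algebra.IsInvariant.isIntegral P B G
  haveI : Algebra.IsIntegral Q A := Algebra.IsInvariant.isIntegral Q A G
  haveI : Algebra.FiniteType P B := Algebra.FiniteType.of_restrictScalars_finiteType R P B
  haveI : Algebra.FiniteType Q A := Algebra.FiniteType.of_restrictScalars_finiteType R Q A
  haveI : Module.Finite P B := Algebra.IsIntegral.finite
  haveI : Module.Finite Q A := Algebra.IsIntegral.finite
  haveI : Algebra.FiniteType R P :=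
    ⟨fg_of_fg_of_fg R P B Algebra.FiniteType.out Module.Finite.fg_top Subtype.val_injective⟩
  haveI : Algebra.FiniteType R Q :=
    ⟨fg_of_fg_of_fg R Q A Algebra.FiniteType.out Module.Finite.fg_top Subtype.val_injective⟩
  haveI : IsNoetherianRing P := Algebra.FiniteType.isNoetherianRing R P
  haveI : IsNoetherianRing B := Algebra.FiniteType.isNoetherianRing R B
  haveI : Algebra.FiniteType P Q := Algebra.FiniteType.of_restrictScalars_finiteType R P Q
  haveI : IsScalarTower P B A := IsScalarTower.of_algebraMap_eq fun _ => rfl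
  haveI : Algebra.FiniteType B A := Algebra.FiniteType.of_restrictScalars_finiteType R B A
  haveI : Algebra.FinitePresentation B A := Algebra.FinitePresentation.of_finiteType.1 inferInstance
  exact isEtaleAt_of_isInvariant P Q A B G Subtype.val_injective Subtype.val_injective hGeq x hx hin

/-- Étaleness of the invariant rings. -/
theorem etale_invariants (R : Type u) [CommRing R]
    [IsNoetherianRing R] (A B : Type u) [CommRing A] [CommRing B] [Algebra R A] [Algebra R B]
    [Algebra.FiniteType R A] [Algebra.FiniteType R B]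
    (G : Type u) [Group G] [Finite G] [MulSemiringAction G A] [MulSemiringAction G B]
    [SMulCommClass G R A] [SMulCommClass G R B]
    [Algebra B A] [IsScalarTower R B A]
    (hGeq : ∀ (g : G) (b : B), algebraMap B A (g • b) = g • algebraMap B A b)
    [Algebra (FixedPoints.subalgebra R B G) (FixedPoints.subalgebra R A G)]
    [IsScalarTower (FixedPoints.subalgebra R B G) (FixedPoints.subalgebra R A G) A]
    (h : ∀ (x : Ideal A) (_ : x.IsMaximal),
      Algebra.IsEtaleAt B x ∧ x.inertia G = (x.comap (algebraMap B A)).inertia G) :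
    Algebra.Etale (FixedPoints.subalgebra R B G) (FixedPoints.subalgebra R A G) := by
  classical
  let P := FixedPoints.subalgebra R B G
  let Q := FixedPoints.subalgebra R A G
  haveI : Algebra.IsInvariant Q A G := ⟨fun a ha => ⟨⟨a, ha⟩, rfl⟩⟩
  haveI : Algebra.IsInvariant P B G := ⟨fun b hb => ⟨⟨b, hb⟩, rfl⟩⟩
  haveI : IsScalarTower R P Q := IsScalarTower.of_algebraMap_eq fun r => Subtype.ext (by
    show algebraMap R A r = algebraMap Q A (algebraMap P Q (algebraMap R P r))
    rw [← IsScalarTower.algebraMap_apply P Q A]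
    exact IsScalarTower.algebraMap_apply R B A r)
  haveI : SMulCommClass G P B := ⟨fun g p b => by
    show g • ((p : B) * b) = (p : B) * (g • b)
    rw [smul_mul', show g • (p : B) = (p : B) from p.2 g]⟩
  haveI : SMulCommClass G Q A := ⟨fun g q a => by
    show g • ((q : A) * a) = (q : A) * (g • a)
    rw [smul_mul', show g • (q : A) = (q : A) from q.2 g]⟩
  haveI : Algebra.IsIntegral P B := Algebra.IsInvariant.isIntegral P B G
  haveI : Algebra.IsIntegral Q A := Algebra.IsInvariant.isIntegral Q A G
  haveI : Algebra.FiniteType P B := Algebra.FiniteType.of_restrictScalars_finiteType R P B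
  haveI : Algebra.FiniteType Q A := Algebra.FiniteType.of_restrictScalars_finiteType R Q A
  haveI : Module.Finite P B := Algebra.IsIntegral.finite
  haveI : Module.Finite Q A := Algebra.IsIntegral.finite
  haveI : Algebra.FiniteType R P :=
    ⟨fg_of_fg_of_fg R P B Algebra.FiniteType.out Module.Finite.fg_top Subtype.val_injective⟩
  haveI : Algebra.FiniteType R Q :=
    ⟨fg_of_fg_of_fg R Q A Algebra.FiniteType.out Module.Finite.fg_top Subtype.val_injective⟩
  haveI : IsNoetherianRing P := Algebra.FiniteType.isNoetherianRing R P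
  haveI : Algebra.FiniteType P Q := Algebra.FiniteType.of_restrictScalars_finiteType R P Q
  haveI : Algebra.FinitePresentation P Q := Algebra.FinitePresentation.of_finiteType.1 inferInstance
  refine Algebra.etaleLocus_eq_univ_iff_etale.1 (Set.eq_univ_of_forall fun z => ?_)
  obtain ⟨m, hm, hzm⟩ := z.asIdeal.exists_le_maximal z.2.ne_top
  haveI := hm
  obtain ⟨x, hx, hxm⟩ := Ideal.exists_ideal_over_maximal_of_isIntegral (S := A) m (fun a ha => by
    have : a = 0 := Subtype.val_injective ha
    rw [this]; exact m.zero_mem)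
  haveI := hx
  obtain ⟨he, hi⟩ := h x hx
  have hmem : (⟨m, hm.isPrime⟩ : PrimeSpectrum Q) ∈ Algebra.etaleLocus P Q := by
    subst hxm
    exact isEtaleAt_invariants R A B G hGeq x he hi
  exact ((PrimeSpectrum.le_iff_specializes z ⟨m, hm.isPrime⟩).1 hzm).mem_open Algebra.isOpen_etaleLocus hmem

end Groth.Agent.InvEtaleLib
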